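import Cfsg.Agent.H756.PU.Grp
import Cfsg.Agent.H775.PU.Bound_m3
import Cfsg.Prelude.Def_Classical
import Mathlib
import Cfsg.Agent.H781.Realized
import Cfsg.Agent.FastGrp
import Cfsg.Agent.Prune
set_option linter.all false

section
prune_inst 0x7f00000000000000000000000000000000000000000000000000000000000000000000000000000000000000000000000000000000000000000000000000000000000000000000000000000000000000003fffffffffffffffffffffffffffbeffbdffffffff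

-- part: H756/PU/Stmts
section
set_option linter.all false

/-!
# S5258: the concrete statements

Plan: `outputs/live/tools/plans/S5258.md`.
-/

set_option autoImplicit false

namespace Cfsg.Agent.H756.PU

open Cfsg Cfsg.FusionSystem

universe u v

/-- the field: `K` has `q²` elements, `q = pⁿ`, `star x = x^q` -/
structure HypK (K : Type u) [Field K] [StarRing K] (p n : ℕ) : Prop where
  pp : p.Prime
  hn : 1 ≤ n
  fin : Finite K
  card : Nat.card K = (p ^ n) ^ 2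
  char : CharP K p
  star_eq : ∀ x : K, star x = x ^ (p ^ n)

section
variable (K : Type u) [Field K] [StarRing K]

/-- `Z = Z(S)`, of order `q` -/
def ZS : Subgroup (UG K) where
  carrier := {g | g.r = 0 ∧ g.u1 = 0 ∧ g.u2 = 0 ∧ g.b = 0 ∧ g.c = 0}
  one_mem' := by simp
  mul_mem' := by
    rintro x y ⟨h1, h2, h3, h4, h5⟩ ⟨k1, k2, k3, k4, k5⟩
    simp [UG.mul_b, h1, h2, h3, h4, h5, k1, k2, k3, k4, k5]
  inv_mem' := by
    rintro x ⟨h1, h2, h3, h4, h5⟩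
    simp [UG.inv_b, UG.d, h1, h2, h3, h4, h5]

/-- `Z₂ = Z₂(S)`, elementary abelian of order `q³` -/
def Z2 : Subgroup (UG K) where
  carrier := {g | g.r = 0 ∧ g.u1 = 0 ∧ g.u2 = 0 ∧ g.c = 0}
  one_mem' := by simp
  mul_mem' := by
    rintro x y ⟨h1, h2, h3, h5⟩ ⟨k1, k2, k3, k5⟩
    simp [h1, h2, h3, h5, k1, k2, k3, k5]
  inv_mem' := by
    rintro x ⟨h1, h2, h3, h5⟩
    simp [h1, h2, h3, h5]

/-- `V = Z(Q₂)`, elementary abelian of order `q⁴` -/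
def VV : Subgroup (UG K) where
  carrier := {g | g.r = 0 ∧ g.u1 = 0 ∧ g.u2 = 0}
  one_mem' := by simp
  mul_mem' := by
    rintro x y ⟨h1, h2, h3⟩ ⟨k1, k2, k3⟩
    simp [h1, h2, h3, k1, k2, k3]
  inv_mem' := by
    rintro x ⟨h1, h2, h3⟩
    simp [h1, h2, h3]

/-- `Y = Z₃(S) = S'`, of order `q⁶` -/
def YY : Subgroup (UG K) where
  carrier := {g | g.r = 0 ∧ g.u2 = 0}
  one_mem' := by simp
  mul_mem' := by
    rintro x y ⟨h1, h3⟩ ⟨k1, k3⟩
    simp [h1, h3, k1, k3]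
  inv_mem' := by
    rintro x ⟨h1, h3⟩
    simp [h1, h3]

/-- `Q₂ = C_S(Z₂)`, of order `q⁸` -/
def Q2 : Subgroup (UG K) where
  carrier := {g | g.r = 0}
  one_mem' := by simp
  mul_mem' := by
    rintro x y h1 k1
    have h1' : x.r = 0 := h1
    have k1' : y.r = 0 := k1
    simp [h1', k1']
  inv_mem' := by
    rintro x h1
    have h1' : x.r = 0 := h1
    simp [h1']

/-- `Q₁ = q^{1+6}` -/
def Q1 : Subgroup (UG K) where
  carrier := {g | g.u2 = 0 ∧ g.c = 0}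
  one_mem' := by simp
  mul_mem' := by
    rintro x y ⟨h1, h3⟩ ⟨k1, k3⟩
    simp [h1, h3, k1, k3]
  inv_mem' := by
    rintro x ⟨h1, h3⟩
    simp [h1, h3]

/-- `Q₁V`, of order `q⁸` -/
def QV : Subgroup (UG K) where
  carrier := {g | g.u2 = 0}
  one_mem' := by simp
  mul_mem' := by
    rintro x y h1 k1
    have h1' : x.u2 = 0 := h1
    have k1' : y.u2 = 0 := k1
    simp [h1', k1']
  inv_mem' := by
    rintro x h1
    have h1' : x.u2 = 0 := h1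
    simp [h1']

/-- `Y₁ = Q₁ ∩ Q₂`, of order `q⁵` -/
def Y1 : Subgroup (UG K) := Q1 K ⊓ Q2 K

end

/-! ### The standard torus with field automorphisms -/

section
variable {K : Type u} [Field K] [StarRing K]

/-- `α` is the automorphism of `UG K` induced by `diag(x1, x2, 1, ..)` after the field automorphism `τ` -/
structure IsTor (α : MulAut (UG K)) (x1 x2 : K) (τ : K ≃+* K) : Prop where
  ne1 : x1 ≠ 0
  ne2 : x2 ≠ 0
  tst : ∀ x, τ (star x) = star (τ x)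
  r : ∀ g : UG K, (α g).r = x1 * x2⁻¹ * τ g.r
  u1 : ∀ g : UG K, (α g).u1 = x1 * τ g.u1
  u2 : ∀ g : UG K, (α g).u2 = x2 * τ g.u2
  a : ∀ g : UG K, (α g).a = x1 * star x1 * τ g.a
  b : ∀ g : UG K, (α g).b = x1 * star x2 * τ g.b
  c : ∀ g : UG K, (α g).c = x2 * star x2 * τ g.c

variable (K) in
/-- the group of all these automorphisms (task PU-TOR: the closure is the set itself) -/
def TT : Subgroup (MulAut (UG K)) := Subgroup.closure {α | ∃ x1 x2 τ, IsTor α x1 x2 τ}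

/-- `γ` is the restriction of `α` to `Q` -/
def IsR (α : MulAut (UG K)) {Q : Subgroup (UG K)} (γ : MulAut Q) : Prop := ∀ e : Q, ((γ e : Q) : UG K) = α e

/-- the Weyl element of `SL₂(K)` on `Q₂` -/
structure IsW2 (γ : MulAut (Q2 K)) : Prop where
  u1 : ∀ e : Q2 K, ((γ e : Q2 K) : UG K).u1 = (e : UG K).u2
  u2 : ∀ e : Q2 K, ((γ e : Q2 K) : UG K).u2 = - (e : UG K).u1
  a : ∀ e : Q2 K, ((γ e : Q2 K) : UG K).a = (e : UG K).c
  b : ∀ e : Q2 K, ((γ e : Q2 K) : UG K).b = - (e : UG K).d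
  c : ∀ e : Q2 K, ((γ e : Q2 K) : UG K).c = (e : UG K).a

/-- the Weyl element of `SU₃(K)` on `Q₁` -/
structure IsW1 (κ : K) (γ : MulAut (Q1 K)) : Prop where
  ne : κ ≠ 0
  tr : κ + star κ = 0
  r : ∀ e : Q1 K, ((γ e : Q1 K) : UG K).r = - κ⁻¹ * (e : UG K).b
  u1 : ∀ e : Q1 K, ((γ e : Q1 K) : UG K).u1 = (e : UG K).u1
  a : ∀ e : Q1 K, ((γ e : Q1 K) : UG K).a =
    (e : UG K).a - star (e : UG K).r * (e : UG K).b + (e : UG K).r * star (e : UG K).b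
  b : ∀ e : Q1 K, ((γ e : Q1 K) : UG K).b = κ * (e : UG K).r

variable (K) in
/-- `Inn(Q₂) SL₂(K)` -/
def Lam2 : Subgroup (MulAut (Q2 K)) := autInducedBy ⊤ (Q2 K) ⊔ Subgroup.closure {γ | IsW2 γ}

variable (K) in
/-- `Inn(Q₁) SU₃(K)` -/
def Lam1 : Subgroup (MulAut (Q1 K)) := autInducedBy ⊤ (Q1 K) ⊔ Subgroup.closure {γ | ∃ κ, IsW1 κ γ}

/-- `Γ = Aut_F(Q)` for a parabolic `Q` whose Sylow subgroup is not normal, and `D` the `p'`-part of `Aut_F(S)` -/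
structure Par (p : ℕ) (Q : Subgroup (UG K)) (Γ : Subgroup (MulAut Q)) (D : Subgroup (MulAut (UG K))) : Prop where
  indu : autInducedBy ⊤ Q ≤ Γ
  syl : ∀ P : Subgroup (MulAut Q), P ≤ Γ → IsPGroup p P → ∃ g ∈ Γ, ∀ x ∈ P, g * x * g⁻¹ ∈ autInducedBy ⊤ Q
  nn : ¬ ∀ γ ∈ Γ, NormAut ⊤ γ
  D_le : D ≤ TT K
  D_cop : (Nat.card D).Coprime p
  D_res : ∀ d ∈ D, ∀ γ : MulAut Q, IsR d γ → γ ∈ Γ
  norm : ∀ γ ∈ Γ, NormAut ⊤ γ → ∃ x : UG K, ∃ d ∈ D, ∀ e : Q, ((γ e : Q) : UG K) = x * d e * x⁻¹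

/-- `D` contains all the automorphisms `tor(f t, g t)`, `t ≠ 0` -/
def HasTor (D : Subgroup (MulAut (UG K))) (f g : K → K) : Prop :=
  ∀ t : K, t ≠ 0 → ∀ α : MulAut (UG K), IsTor α (f t) (g t) (RingEquiv.refl K) → α ∈ D

end

/-! ### Essential subgroups of `UG K` -/

/-- (E1) -/
def StE1 : Prop :=
  ∀ {K : Type u} [Field K] [StarRing K] {p n : ℕ}, HypK K p n →
    ∀ {E : Subgroup (UG K)} {Γ : Subgroup (MulAut E)}, Ess (⊤ : Subgroup (UG K)) E p Γ → Z2 K ≤ E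

/-- (E2) -/
def StE2 : Prop :=
  ∀ {K : Type u} [Field K] [StarRing K] {p n : ℕ}, HypK K p n →
    ∀ {E : Subgroup (UG K)} {Γ : Subgroup (MulAut E)}, Ess (⊤ : Subgroup (UG K)) E p Γ → Z2 K ≤ E →
    ¬ VV K ≤ E → Inv Γ (ZS K)

/-- (E3a) -/
def StE3a : Prop :=
  ∀ {K : Type u} [Field K] [StarRing K] {p n : ℕ}, HypK K p n →
    ∀ {E : Subgroup (UG K)} {Γ : Subgroup (MulAut E)}, Ess (⊤ : Subgroup (UG K)) E p Γ → Z2 K ≤ E →
    Inv Γ (ZS K) → ¬ Q1 K ≤ E → ¬ E ≤ QV K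

/-- (E3b) -/
def StE3b : Prop :=
  ∀ {K : Type u} [Field K] [StarRing K] {p n : ℕ}, HypK K p n →
    ∀ {E : Subgroup (UG K)} {Γ : Subgroup (MulAut E)}, Ess (⊤ : Subgroup (UG K)) E p Γ → Z2 K ≤ E →
    Inv Γ (ZS K) → ¬ Q1 K ≤ E → ¬ E ≤ QV K → Y1 K ≤ E

/-- (E3c) -/
def StE3c : Prop :=
  ∀ {K : Type u} [Field K] [StarRing K] {p n : ℕ}, HypK K p n →
    ∀ {E : Subgroup (UG K)} {Γ : Subgroup (MulAut E)}, Ess (⊤ : Subgroup (UG K)) E p Γ → Z2 K ≤ E →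
    Inv Γ (ZS K) → ¬ Q1 K ≤ E → ¬ E ≤ QV K → Y1 K ≤ E → VV K ≤ E

/-- (E3d) -/
def StE3d : Prop :=
  ∀ {K : Type u} [Field K] [StarRing K] {p n : ℕ}, HypK K p n →
    ∀ {E : Subgroup (UG K)} {Γ : Subgroup (MulAut E)}, Ess (⊤ : Subgroup (UG K)) E p Γ → YY K ≤ E →
    Inv Γ (ZS K) → ¬ E ≤ QV K → Inv Γ (Z2 K)

/-- (E3e) -/
def StE3e : Prop :=
  ∀ {K : Type u} [Field K] [StarRing K] {p n : ℕ}, HypK K p n →
    ∀ {E : Subgroup (UG K)} {Γ : Subgroup (MulAut E)}, Ess (⊤ : Subgroup (UG K)) E p Γ → YY K ≤ E →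
    Inv Γ (Z2 K) → Q2 K ≤ E ∧ Inv Γ (Q2 K)

/-- (E3f) -/
def StE3f : Prop :=
  ∀ {K : Type u} [Field K] [StarRing K] {p n : ℕ}, HypK K p n →
    ∀ {E : Subgroup (UG K)} {Γ : Subgroup (MulAut E)}, Ess (⊤ : Subgroup (UG K)) E p Γ →
    Inv Γ (ZS K) → Q1 K ≤ E → Inv Γ (Q1 K)

/-- (E4a) -/
def StE4a : Prop :=
  ∀ {K : Type u} [Field K] [StarRing K] {p n : ℕ}, HypK K p n →
    ∀ {E : Subgroup (UG K)} {Γ : Subgroup (MulAut E)}, Ess (⊤ : Subgroup (UG K)) E p Γ → VV K ≤ E → E ≤ Q2 K →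
    E = Q2 K

/-- (E4b) -/
def StE4b : Prop :=
  ∀ {K : Type u} [Field K] [StarRing K] {p n : ℕ}, HypK K p n →
    ∀ {E : Subgroup (UG K)} {Γ : Subgroup (MulAut E)}, Ess (⊤ : Subgroup (UG K)) E p Γ → VV K ≤ E → ¬ E ≤ Q2 K →
    ¬ Inv Γ (ZS K) → YY K ≤ E

/-- (E4c) -/
def StE4c : Prop :=
  ∀ {K : Type u} [Field K] [StarRing K] {p n : ℕ}, HypK K p n →
    ∀ {E : Subgroup (UG K)} {Γ : Subgroup (MulAut E)}, Ess (⊤ : Subgroup (UG K)) E p Γ → YY K ≤ E → ¬ E ≤ Q2 K →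
    ¬ Inv Γ (ZS K) → Q2 K ≤ E ∧ Inv Γ (Q2 K)

/-! ### The parabolics -/

/-- (TI) `Aut_S(Q)` is TI modulo `Inn(Q)` as soon as it is a Sylow subgroup, `Q = Q₁, Q₂`; `Q` is centric and
invariant under all automorphisms of `UG K` -/
def StTI : Prop :=
  ∀ {K : Type u} [Field K] [StarRing K] {p n : ℕ}, HypK K p n → ∀ Q : Subgroup (UG K), (Q = Q1 K ∨ Q = Q2 K) →
    (∀ Γ : Subgroup (MulAut Q), autInducedBy ⊤ Q ≤ Γ →
      (∀ P : Subgroup (MulAut Q), P ≤ Γ → IsPGroup p P → ∃ g ∈ Γ, ∀ x ∈ P, g * x * g⁻¹ ∈ autInducedBy ⊤ Q) →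
      TIAut (⊤ : Subgroup (UG K)) Γ) ∧
    centralizerIn ⊤ Q ≤ Q ∧ Q ≠ ⊤ ∧ (∀ α : MulAut (UG K), Q.map α.toMonoidHom = Q)

/-- (GRP) `UG K` is a finite `p`-group of order `q^10`; all the automorphisms exist -/
def StGrp : Prop :=
  ∀ {K : Type u} [Field K] [StarRing K] {p n : ℕ}, HypK K p n →
    Nat.card (UG K) = (p ^ n) ^ 10 ∧ IsPGroup p (⊤ : Subgroup (UG K)) ∧
    (∀ (x1 x2 : K) (τ : K ≃+* K), x1 ≠ 0 → x2 ≠ 0 → ∃ α, IsTor α x1 x2 τ) ∧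
    (∀ α ∈ TT K, ∃ x1 x2 τ, IsTor α x1 x2 τ) ∧
    (∃ γ : MulAut (Q2 K), IsW2 γ) ∧ (∀ κ : K, κ ≠ 0 → κ + star κ = 0 → ∃ γ : MulAut (Q1 K), IsW1 κ γ)

/-- (POS) every `p'`-group of automorphisms of `UG K` is conjugate into `TT K` -/
def StPos : Prop :=
  ∀ {K : Type u} [Field K] [StarRing K] {p n : ℕ}, HypK K p n → ∀ D : Subgroup (MulAut (UG K)),
    (Nat.card D).Coprime p → ∃ θ : MulAut (UG K), ∀ d ∈ D, θ * d * θ⁻¹ ∈ TT K

/-- (L2a) the action on `U = Q₂/V` -/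
def StL2a : Prop :=
  ∀ {K : Type u} [Field K] [StarRing K] {p n : ℕ}, HypK K p n →
    ∀ (Γ : Subgroup (MulAut (Q2 K))) (D : Subgroup (MulAut (UG K))), Par p (Q2 K) Γ D →
    (p ^ n = 2 → HasTor D (fun t => t) (fun _ => 1)) →
    HasTor D (fun t => t) (fun t => t⁻¹) ∧
    (∀ l ∈ Lam2 K, ∃ γ ∈ Γ, ∀ e : Q2 K, ((γ e : Q2 K) : UG K).u1 = ((l e : Q2 K) : UG K).u1 ∧
      ((γ e : Q2 K) : UG K).u2 = ((l e : Q2 K) : UG K).u2) ∧
    (∀ γ ∈ Γ, ∃ l ∈ Lam2 K, ∃ d ∈ D, ∃ δ : MulAut (Q2 K), IsR d δ ∧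
      ∀ e : Q2 K, ((γ e : Q2 K) : UG K).u1 = (((l * δ) e : Q2 K) : UG K).u1 ∧
      ((γ e : Q2 K) : UG K).u2 = (((l * δ) e : Q2 K) : UG K).u2)

/-- (L2) -/
def StL2 : Prop :=
  ∀ {K : Type u} [Field K] [StarRing K] {p n : ℕ}, HypK K p n →
    ∀ (Γ : Subgroup (MulAut (Q2 K))) (D : Subgroup (MulAut (UG K))), Par p (Q2 K) Γ D →
    (p ^ n = 2 → HasTor D (fun t => t) (fun _ => 1)) →
    HasTor D (fun t => t) (fun t => t⁻¹) ∧
    (∀ γ : MulAut (Q2 K), γ ∈ Γ ↔ ∃ l ∈ Lam2 K, ∃ d ∈ D, ∃ δ : MulAut (Q2 K), IsR d δ ∧ γ = l * δ)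

/-- (U3) the abstract rank one identification: a finite group with a non-normal TI Sylow `p`-subgroup that looks like that
of `SU₃(q)`, `q = pⁿ > 2`, acting on a group of order `q⁶` -/
def StU3 : Prop :=
  ∀ {G : Type u} [Group G] [Finite G] {p n : ℕ} [Fact p.Prime] (P : Sylow p G), 1 ≤ n → 2 < p ^ n →
    (∀ g : G, g ∉ Subgroup.normalizer ((P : Subgroup G) : Set G) → ∀ x ∈ (P : Subgroup G), g * x * g⁻¹ ∈ (P : Subgroup G) →
      x = 1) →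
    ¬ (P : Subgroup G).Normal → Nat.card P = (p ^ n) ^ 3 → Nat.card (Subgroup.center P) = p ^ n →
    commutator P = Subgroup.center P → (p ≠ 2 → ∀ x : P, x ^ p = 1) →
    Nat.card G ∣ Nat.card (GL (Fin (6 * n)) (ZMod p)) →
    (∀ P' P'' : Sylow p G, P' ≠ P → P'' ≠ P → ∃ x ∈ (P : Subgroup G),
      (P' : Subgroup G).map (MulAut.conj x).toMonoidHom = P'') ∧
    (∀ P' : Sylow p G, P' ≠ P → ∃ x y : G, x ∈ (P : Subgroup G) ∧ (∀ z ∈ (P : Subgroup G), x * z = z * x) ∧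
      y ∈ (P' : Subgroup G) ∧ (∀ z ∈ (P' : Subgroup G), y * z = z * y) ∧
      (P : Subgroup G).map (MulAut.conj (x * y * x)).toMonoidHom = P' ∧
      (P' : Subgroup G).map (MulAut.conj (x * y * x)).toMonoidHom = P) ∧
    (p ^ n = 3 → ∃ h ∈ Subgroup.normalizer ((P : Subgroup G) : Set G),
      h ∈ Subgroup.normalClosure ((P : Subgroup G) : Set G) ∧ ∀ k : ℕ, 0 < k → k < 8 → ∃ x ∈ (P : Subgroup G), ∃ y ∈ (P : Subgroup G),
        (h ^ k * x * (h ^ k)⁻¹ * x⁻¹) * y ≠ y * (h ^ k * x * (h ^ k)⁻¹ * x⁻¹))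

/-- (L1a) the action on `W = Q₁/Z` -/
def StL1a : Prop :=
  ∀ {K : Type u} [Field K] [StarRing K] {p n : ℕ}, HypK K p n →
    ∀ (Γ : Subgroup (MulAut (Q1 K))) (D : Subgroup (MulAut (UG K))), Par p (Q1 K) Γ D →
    (p ^ n ≠ 2 → HasTor D (fun t => t) (fun t => t⁻¹)) →
    HasTor D (fun t => t * (star t)⁻¹) (fun t => t ^ 2 * (star t)⁻¹) ∧
    (∀ l ∈ Lam1 K, ∃ γ ∈ Γ, ∀ e : Q1 K, ((γ e : Q1 K) : UG K).r = ((l e : Q1 K) : UG K).r ∧
      ((γ e : Q1 K) : UG K).u1 = ((l e : Q1 K) : UG K).u1 ∧ ((γ e : Q1 K) : UG K).b = ((l e : Q1 K) : UG K).b) ∧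
    (∀ γ ∈ Γ, ∃ l ∈ Lam1 K, ∃ d ∈ D, ∃ δ : MulAut (Q1 K), IsR d δ ∧
      ∀ e : Q1 K, ((γ e : Q1 K) : UG K).r = (((l * δ) e : Q1 K) : UG K).r ∧
      ((γ e : Q1 K) : UG K).u1 = (((l * δ) e : Q1 K) : UG K).u1 ∧
      ((γ e : Q1 K) : UG K).b = (((l * δ) e : Q1 K) : UG K).b)

/-- (L1) -/
def StL1 : Prop :=
  ∀ {K : Type u} [Field K] [StarRing K] {p n : ℕ}, HypK K p n →
    ∀ (Γ : Subgroup (MulAut (Q1 K))) (D : Subgroup (MulAut (UG K))), Par p (Q1 K) Γ D →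
    (p ^ n ≠ 2 → HasTor D (fun t => t) (fun t => t⁻¹)) →
    HasTor D (fun t => t * (star t)⁻¹) (fun t => t ^ 2 * (star t)⁻¹) ∧
    (∀ γ : MulAut (Q1 K), γ ∈ Γ ↔ ∃ l ∈ Lam1 K, ∃ d ∈ D, ∃ δ : MulAut (Q1 K), IsR d δ ∧ γ = l * δ)

/-- (REAL) -/
def StReal : Prop :=
  ∀ {K : Type u} [Field K] [StarRing K] {p n : ℕ} [Fact p.Prime], HypK K p n → ∀ D : Subgroup (MulAut (UG K)),
    D ≤ TT K → (Nat.card D).Coprime p → HasTor D (fun t => t) (fun t => t⁻¹) →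
    HasTor D (fun t => t * (star t)⁻¹) (fun t => t ^ 2 * (star t)⁻¹) →
    ∃ F : FusionSystem (⊤ : Subgroup (UG K)), F.IsSaturated p ∧ F.IsRealizable p ∧
      AF F = (MulAut.conj : UG K →* MulAut (UG K)).range ⊔ D ∧
      (¬ ∀ γ ∈ F.autGroup (Q1 K), NormAut (⊤ : Subgroup (UG K)) γ) ∧
      (¬ ∀ γ ∈ F.autGroup (Q2 K), NormAut (⊤ : Subgroup (UG K)) γ)

/-- (SYL) the Sylow subgroup of `PSU₅(q)` is `UG K` -/
def StSyl : Prop :=
  ∀ {K : Type u} [Field K] [StarRing K] {p n : ℕ} [Fact p.Prime], HypK K p n →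
    ∀ T : Sylow p (Cfsg.PSU 5 K (p ^ n)), Nonempty (↥(T : Subgroup (Cfsg.PSU 5 K (p ^ n))) ≃* UG K)

end Cfsg.Agent.H756.PU
end

-- part: H294/PU/Gen
section
set_option linter.all false
open scoped Cfsg.Agent.FastGrp

/-!
# S5258: the generic TI argument (helper294)

A Sylow subgroup `Aut_G(Q)` of `Γ ≤ Aut(Q)` is normalized by every `γ ∈ Γ` preserving a chain
`Q ≥ M2 ≥ M1 ≥ V` whose factors are centralized by `G`, `V = Q' ≤ Z(Q)`.
-/

set_option autoImplicit false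

namespace Cfsg.Agent.H294.PU

open Cfsg Cfsg.FusionSystem Cfsg.Agent.H756.PU

universe u

section Gen

variable {Q : Type u} [Group Q]

/-- iterating an automorphism acting trivially, modulo a central subgroup, on `x⁻¹ β(x)` -/
theorem step_pow {V N1 : Subgroup Q} (hV : ∀ v ∈ V, ∀ x : Q, v * x = x * v) (β : MulAut Q)
    (hβV : ∀ v ∈ V, β v ∈ V) (hN1 : ∀ x ∈ N1, x⁻¹ * β x ∈ V) (x : Q) (hx : x⁻¹ * β x ∈ N1) (j : ℕ) :
    ∃ v ∈ V, (β ^ j) x = x * (x⁻¹ * β x) ^ j * v := by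
  induction j with
  | zero => exact ⟨1, V.one_mem, by simp⟩
  | succ j ih =>
    obtain ⟨v, hv, he⟩ := ih
    set n := x⁻¹ * β x with hn
    have h1 : n⁻¹ * β n ∈ V := hN1 n hx
    set v' := n⁻¹ * β n with hv'
    have h2 : β n = n * v' := by rw [hv']; group
    have h3 : β x = x * n := by rw [hn]; group
    have hc : Commute n v' := (hV v' h1 n).symm
    refine ⟨v' ^ j * β v, V.mul_mem (V.pow_mem h1 j) (hβV v hv), ?_⟩
    rw [pow_succ', MulAut.mul_apply, he, map_mul, map_mul, map_pow, h2, h3, hc.mul_pow, pow_succ']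
    group

theorem step_triv {V N1 : Subgroup Q} (hV : ∀ v ∈ V, ∀ x : Q, v * x = x * v) (β : MulAut Q)
    (hβV : ∀ v ∈ V, β v ∈ V) (hN1 : ∀ x ∈ N1, x⁻¹ * β x ∈ V) {N : ℕ} (hN : ∀ x : Q, x ^ N = 1)
    (x : Q) (hx : x⁻¹ * β x ∈ N1) : x⁻¹ * (β ^ N) x ∈ V := by
  obtain ⟨v, hv, he⟩ := step_pow hV β hβV hN1 x hx N
  rw [he, hN]
  simpa using hv

/-- the conditions on `β` -/
structure Ch (V M1 M2 : Subgroup Q) (β : MulAut Q) : Prop where
  iV : ∀ x, x ∈ V ↔ β x ∈ V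
  i1 : ∀ x, x ∈ M1 ↔ β x ∈ M1
  i2 : ∀ x, x ∈ M2 ↔ β x ∈ M2
  t0 : ∀ x ∈ M1, x⁻¹ * β x ∈ V
  t1 : ∀ x ∈ M2, x⁻¹ * β x ∈ M1
  t2 : ∀ x, x⁻¹ * β x ∈ M2

/-- the group of automorphisms stabilizing the chain -/
def ChG (V M1 M2 : Subgroup Q) : Subgroup (MulAut Q) where
  carrier := {β | Ch V M1 M2 β}
  one_mem' := by
    refine ⟨fun x => Iff.rfl, fun x => Iff.rfl, fun x => Iff.rfl, fun x _ => ?_, fun x _ => ?_, fun x => ?_⟩
    · simpa using V.one_mem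
    · simpa using M1.one_mem
    · simpa using M2.one_mem
  mul_mem' := by
    rintro α β ha hb
    have key : ∀ x, x⁻¹ * (α * β) x = (x⁻¹ * β x) * ((β x)⁻¹ * α (β x)) := fun x => by
      rw [MulAut.mul_apply]; group
    refine ⟨fun x => (hb.iV x).trans (ha.iV _), fun x => (hb.i1 x).trans (ha.i1 _),
      fun x => (hb.i2 x).trans (ha.i2 _), fun x hx => ?_, fun x hx => ?_, fun x => ?_⟩
    · rw [key]; exact V.mul_mem (hb.t0 x hx) (ha.t0 _ ((hb.i1 x).1 hx))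
    · rw [key]; exact M1.mul_mem (hb.t1 x hx) (ha.t1 _ ((hb.i2 x).1 hx))
    · rw [key]; exact M2.mul_mem (hb.t2 x) (ha.t2 _)
  inv_mem' := by
    intro α ha
    have hi : ∀ x, α (α⁻¹ x) = x := fun x => MulAut.apply_inv_self _ α x
    have key : ∀ x, x⁻¹ * α⁻¹ x = ((α⁻¹ x)⁻¹ * α (α⁻¹ x))⁻¹ := fun x => by
      rw [hi]; group
    have jV : ∀ x, x ∈ V ↔ α⁻¹ x ∈ V := fun x => by rw [ha.iV (α⁻¹ x), hi]
    have j1 : ∀ x, x ∈ M1 ↔ α⁻¹ x ∈ M1 := fun x => by rw [ha.i1 (α⁻¹ x), hi]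
    have j2 : ∀ x, x ∈ M2 ↔ α⁻¹ x ∈ M2 := fun x => by rw [ha.i2 (α⁻¹ x), hi]
    refine ⟨jV, j1, j2, fun x hx => ?_, fun x hx => ?_, fun x => ?_⟩
    · rw [key]; exact V.inv_mem (ha.t0 _ ((j1 x).1 hx))
    · rw [key]; exact M1.inv_mem (ha.t1 _ ((j2 x).1 hx))
    · rw [key]; exact M2.inv_mem (ha.t2 _)

theorem mem_ChG {V M1 M2 : Subgroup Q} {β : MulAut Q} : β ∈ ChG V M1 M2 ↔ Ch V M1 M2 β := Iff.rfl

/-- the stabilizer of the chain is a `p`-group -/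
theorem isPGroup_ChG {V M1 M2 : Subgroup Q} (hV : ∀ v ∈ V, ∀ x : Q, v * x = x * v)
    (hgen : ∀ β : MulAut Q, (∀ x, x⁻¹ * β x ∈ V) → ∀ v ∈ V, β v = v) {p k : ℕ}
    (hexp : ∀ x : Q, x ^ p ^ k = 1) : IsPGroup p (ChG V M1 M2) := by
  rintro ⟨β, hβ⟩
  have hβ' : Ch V M1 M2 β := hβ
  have hpow : ∀ j, Ch V M1 M2 (β ^ j) := fun j => (ChG V M1 M2).pow_mem hβ j
  set N := p ^ k with hNdef
  -- first step
  have s1 : ∀ x ∈ M2, x⁻¹ * (β ^ N) x ∈ V := fun x hx =>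
    step_triv hV β (fun v hv => (hβ'.iV v).1 hv) hβ'.t0 hexp x (hβ'.t1 x hx)
  have s2 : ∀ x, x⁻¹ * ((β ^ N) ^ N) x ∈ V := fun x =>
    step_triv hV (β ^ N) (fun v hv => ((hpow N).iV v).1 hv) s1 hexp x ((hpow N).t2 x)
  set δ := (β ^ N) ^ N with hδ
  have s3 : ∀ v ∈ V, δ v = v := hgen δ s2
  have s4 : ∀ x, x⁻¹ * (δ ^ N) x ∈ (⊥ : Subgroup Q) := fun x =>
    step_triv (V := ⊥) (N1 := V) (fun v hv x => by
      rw [Subgroup.mem_bot] at hv; subst hv; simp) δ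
      (fun v hv => by rw [Subgroup.mem_bot] at hv ⊢; subst hv; simp)
      (fun v hv => by rw [s3 v hv, Subgroup.mem_bot]; group) hexp x (s2 x)
  have s5 : δ ^ N = 1 := by
    ext x
    have := s4 x
    rw [Subgroup.mem_bot] at this
    rw [MulAut.one_apply]
    exact (inv_mul_eq_one.1 this).symm
  refine ⟨k + k + k, ?_⟩
  ext1
  rw [Subgroup.coe_pow, Subgroup.coe_one]
  change β ^ p ^ (k + k + k) = 1
  rw [pow_add, pow_add, pow_mul, pow_mul, ← hNdef, ← hδ, s5]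

end Gen

/-- the Sylow argument -/
theorem norm_of_pgroup {G : Type u} [Group G] {p : ℕ} {Q : Subgroup G} [Finite Q]
    {Γ : Subgroup (MulAut Q)}
    (hsyl : ∀ P : Subgroup (MulAut Q), P ≤ Γ → IsPGroup p P →
      ∃ g ∈ Γ, ∀ x ∈ P, g * x * g⁻¹ ∈ autInducedBy ⊤ Q)
    {R : Subgroup (MulAut Q)} (hR : R ≤ Γ) (hRp : IsPGroup p R) (hT : autInducedBy ⊤ Q ≤ R)
    {γ : MulAut Q} (hγ : ∀ x ∈ autInducedBy (⊤ : Subgroup G) Q, γ * x * γ⁻¹ ∈ R) :
    NormAut (⊤ : Subgroup G) γ := by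
  obtain ⟨g, hg, h⟩ := hsyl R hR hRp
  set T := autInducedBy (⊤ : Subgroup G) Q with hTdef
  have hle : T.map (MulAut.conj g).toMonoidHom ≤ T := by
    rintro _ ⟨x, hx, rfl⟩
    exact h x (hT hx)
  have hfin : Finite (MulAut Q) := inferInstance
  have heq : T.map (MulAut.conj g).toMonoidHom = T := by
    apply Subgroup.eq_of_le_of_card_ge hle
    rw [Subgroup.card_map_of_injective (MulAut.conj g).injective]
  intro x hx
  have h1 := h _ (hγ x hx)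
  have h2 : g * (γ * x * γ⁻¹) * g⁻¹ ∈ T.map (MulAut.conj g).toMonoidHom := by rw [heq]; exact h1
  obtain ⟨t, ht, he⟩ := h2
  have h3 : t = γ * x * γ⁻¹ := by
    apply (MulAut.conj g).injective
    exact he
  rw [← h3]; exact ht

/-- the TI argument -/
theorem ti_core {G : Type u} [Group G] [Finite G] {p k : ℕ} (hexp : ∀ x : G, x ^ p ^ k = 1)
    {Q V M1 M2 : Subgroup G} (h1 : V ≤ M1) (h2 : M1 ≤ M2) (h3 : M2 ≤ Q)
    (hVc : ∀ v ∈ V, ∀ x ∈ Q, v * x = x * v)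
    (hVgen : ∀ β : MulAut Q, (∀ x : Q, ((x⁻¹ * β x : Q) : G) ∈ V) → ∀ v : Q, (v : G) ∈ V → β v = v)
    (hT2 : ∀ g : G, ∀ x ∈ Q, x⁻¹ * (g * x * g⁻¹) ∈ M2)
    (hT1 : ∀ g : G, ∀ x ∈ M2, x⁻¹ * (g * x * g⁻¹) ∈ M1)
    (hT0 : ∀ g : G, ∀ x ∈ M1, x⁻¹ * (g * x * g⁻¹) ∈ V)
    {Γ : Subgroup (MulAut Q)} (hΓ : autInducedBy ⊤ Q ≤ Γ)
    (hsyl : ∀ P : Subgroup (MulAut Q), P ≤ Γ → IsPGroup p P →
      ∃ g ∈ Γ, ∀ x ∈ P, g * x * g⁻¹ ∈ autInducedBy ⊤ Q)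
    {γ : MulAut Q} (hγ : γ ∈ Γ)
    (gV : ∀ x : Q, (x : G) ∈ V ↔ ((γ x : Q) : G) ∈ V)
    (g1 : ∀ x : Q, (x : G) ∈ M1 ↔ ((γ x : Q) : G) ∈ M1)
    (g2 : ∀ x : Q, (x : G) ∈ M2 ↔ ((γ x : Q) : G) ∈ M2) : NormAut (⊤ : Subgroup G) γ := by
  set R0 : Subgroup (MulAut Q) := ChG (V.subgroupOf Q) (M1.subgroupOf Q) (M2.subgroupOf Q) with hR0
  have hnV : ∀ (g : G), ∀ x ∈ V, g * x * g⁻¹ ∈ V := fun g x hx => by
    have := V.mul_mem hx (hT0 g x (h1 hx)); simpa [mul_assoc] using this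
  have hn1 : ∀ (g : G), ∀ x ∈ M1, g * x * g⁻¹ ∈ M1 := fun g x hx => by
    have := M1.mul_mem hx (hT1 g x (h2 hx)); simpa [mul_assoc] using this
  have hn2 : ∀ (g : G), ∀ x ∈ M2, g * x * g⁻¹ ∈ M2 := fun g x hx => by
    have := M2.mul_mem hx (hT2 g x (h3 hx)); simpa [mul_assoc] using this
  have iffn : ∀ (M : Subgroup G), (∀ (g : G), ∀ x ∈ M, g * x * g⁻¹ ∈ M) →
      ∀ g x, x ∈ M ↔ g * x * g⁻¹ ∈ M := fun M hM g x => by
    refine ⟨hM g x, fun h => ?_⟩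
    have := hM g⁻¹ _ h
    simpa [mul_assoc] using this
  -- the induced automorphisms are in `R0`
  have hTR : autInducedBy ⊤ Q ≤ R0 := by
    intro α hα
    obtain ⟨g, -, hg⟩ := (Cfsg.Agent.H802.mem_autInducedBy_iff _ _ _).1 hα
    rw [hR0, mem_ChG]
    refine ⟨fun x => ?_, fun x => ?_, fun x => ?_, fun x hx => ?_, fun x hx => ?_, fun x => ?_⟩
    · rw [Subgroup.mem_subgroupOf, Subgroup.mem_subgroupOf, hg]; exact iffn V hnV g _
    · rw [Subgroup.mem_subgroupOf, Subgroup.mem_subgroupOf, hg]; exact iffn M1 hn1 g _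
    · rw [Subgroup.mem_subgroupOf, Subgroup.mem_subgroupOf, hg]; exact iffn M2 hn2 g _
    · rw [Subgroup.mem_subgroupOf] at hx ⊢
      rw [Subgroup.coe_mul, Subgroup.coe_inv, hg]; exact hT0 g _ hx
    · rw [Subgroup.mem_subgroupOf] at hx ⊢
      rw [Subgroup.coe_mul, Subgroup.coe_inv, hg]; exact hT1 g _ hx
    · rw [Subgroup.mem_subgroupOf]
      rw [Subgroup.coe_mul, Subgroup.coe_inv, hg]; exact hT2 g _ x.2
  have hRp : IsPGroup p R0 := by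
    refine isPGroup_ChG (k := k) ?_ ?_ ?_
    · intro v hv x
      ext
      exact hVc v hv x x.2
    · intro β hβ v hv
      exact hVgen β (fun x => hβ x) v hv
    · intro x
      ext
      rw [Subgroup.coe_pow, hexp]; rfl
  -- the conjugates
  have hγT : ∀ x ∈ autInducedBy (⊤ : Subgroup G) Q, γ * x * γ⁻¹ ∈ R0 := by
    intro t ht
    have ht' : Ch _ _ _ t := hTR ht
    have hi : ∀ x, γ (γ⁻¹ x) = x := fun x => MulAut.apply_inv_self _ γ x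
    have jj : ∀ M : Subgroup G, (∀ x : Q, (x : G) ∈ M ↔ ((γ x : Q) : G) ∈ M) →
        ∀ x : Q, x ∈ M.subgroupOf Q ↔ γ⁻¹ x ∈ M.subgroupOf Q := fun M hM x => by
      rw [Subgroup.mem_subgroupOf, Subgroup.mem_subgroupOf, hM (γ⁻¹ x), hi]
    have key : ∀ x, x⁻¹ * (γ * t * γ⁻¹) x = γ ((γ⁻¹ x)⁻¹ * t (γ⁻¹ x)) := fun x => by
      rw [map_mul, map_inv, hi, MulAut.mul_apply, MulAut.mul_apply]
    have ii : ∀ M : Subgroup G, (∀ x : Q, (x : G) ∈ M ↔ ((γ x : Q) : G) ∈ M) →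
        (∀ x, x ∈ M.subgroupOf Q ↔ t x ∈ M.subgroupOf Q) →
        ∀ x, x ∈ M.subgroupOf Q ↔ (γ * t * γ⁻¹) x ∈ M.subgroupOf Q := fun M hM hM' x => by
      rw [MulAut.mul_apply, MulAut.mul_apply, jj M hM x, hM' (γ⁻¹ x), Subgroup.mem_subgroupOf,
        Subgroup.mem_subgroupOf, hM]
    rw [hR0, mem_ChG]
    refine ⟨ii V gV ht'.iV, ii M1 g1 ht'.i1, ii M2 g2 ht'.i2, fun x hx => ?_, fun x hx => ?_, fun x => ?_⟩
    · rw [key, Subgroup.mem_subgroupOf, ← gV]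
      exact ht'.t0 _ ((jj M1 g1 x).1 hx)
    · rw [key, Subgroup.mem_subgroupOf, ← g1]
      exact ht'.t1 _ ((jj M2 g2 x).1 hx)
    · rw [key, Subgroup.mem_subgroupOf, ← g2]
      exact ht'.t2 _
  have hle : R0 ⊓ Γ ≤ R0 := inf_le_left
  have hRp' : IsPGroup p (R0 ⊓ Γ : Subgroup (MulAut Q)) := hRp.to_le hle
  refine norm_of_pgroup hsyl (R := R0 ⊓ Γ) inf_le_right hRp' (le_inf hTR hΓ) ?_
  intro x hx
  exact ⟨hγT x hx, Γ.mul_mem (Γ.mul_mem hγ (hΓ hx)) (Γ.inv_mem hγ)⟩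

end Cfsg.Agent.H294.PU
end

-- part: H776/P4/Stmts
section
set_option linter.all false

-- part: H776/P4/Grp
section
/-!
# S5210: the concrete Sylow `p`-subgroup `PG K` of `PSU₄(K)`

`K` is a field with an involution `star` (`x ↦ x^q`). The elements are the products `v · u_r`, where
`v = [a, b; star b, c]` is hermitian (the abelian normal subgroup `V`) and `u_r` acts as `v ↦ A v A*`, `A = [1, r; 0, 1]`.
-/

set_option autoImplicit false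

namespace Cfsg.Agent.H776.P4

universe u

/-- the unipotent group of order `q⁶` -/
@[ext] structure PG (K : Type u) [Field K] [StarRing K] where
  r : K
  a : K
  b : K
  c : K
  ha : star a = a
  hc : star c = c

namespace PG

variable {K : Type u} [Field K] [StarRing K]

instance : Mul (PG K) := ⟨fun x y =>
  { r := x.r + y.r
    a := x.a + y.a + x.r * star y.b + star x.r * y.b + x.r * star x.r * y.c
    b := x.b + y.b + x.r * y.c
    c := x.c + y.c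
    ha := by
      simp only [star_add, star_mul', star_star, x.ha, y.ha, y.hc]
      ring
    hc := by
      simp only [star_add, x.hc, y.hc] }⟩

instance : One (PG K) := ⟨{ r := 0, a := 0, b := 0, c := 0, ha := by simp, hc := by simp }⟩

instance : Inv (PG K) := ⟨fun x =>
  { r := - x.r
    a := - x.a + x.r * star x.b + star x.r * x.b - x.r * star x.r * x.c
    b := - x.b + x.r * x.c
    c := - x.c
    ha := by
      simp only [star_add, star_sub, star_mul', star_star, star_neg, x.ha, x.hc]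
      ring
    hc := by
      simp only [star_neg, x.hc] }⟩

@[simp] theorem mul_r (x y : PG K) : (x * y).r = x.r + y.r := rfl
theorem mul_a (x y : PG K) : (x * y).a =
    x.a + y.a + x.r * star y.b + star x.r * y.b + x.r * star x.r * y.c := rfl
theorem mul_b (x y : PG K) : (x * y).b = x.b + y.b + x.r * y.c := rfl
@[simp] theorem mul_c (x y : PG K) : (x * y).c = x.c + y.c := rfl
@[simp] theorem one_r : (1 : PG K).r = 0 := rfl
@[simp] theorem one_a : (1 : PG K).a = 0 := rfl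
@[simp] theorem one_b : (1 : PG K).b = 0 := rfl
@[simp] theorem one_c : (1 : PG K).c = 0 := rfl
@[simp] theorem inv_r (x : PG K) : (x⁻¹).r = - x.r := rfl
theorem inv_a (x : PG K) : (x⁻¹).a =
    - x.a + x.r * star x.b + star x.r * x.b - x.r * star x.r * x.c := rfl
theorem inv_b (x : PG K) : (x⁻¹).b = - x.b + x.r * x.c := rfl
@[simp] theorem inv_c (x : PG K) : (x⁻¹).c = - x.c := rfl

instance : Group (PG K) where
  mul_assoc x y z := by
    ext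
    · simp only [mul_r]; ring
    · simp only [mul_r, mul_a, mul_b, mul_c, star_add, star_mul', z.hc]; ring
    · simp only [mul_r, mul_b, mul_c]; ring
    · simp only [mul_c]; ring
  one_mul x := by
    ext <;> simp [mul_a, mul_b]
  mul_one x := by
    ext <;> simp [mul_a, mul_b]
  inv_mul_cancel x := by
    ext
    · simp
    · simp only [mul_a, inv_a, inv_r, one_a, star_neg]; ring
    · simp only [mul_b, inv_b, inv_r, one_b]; ring
    · simp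

end PG

end Cfsg.Agent.H776.P4
end

-- part: H776/P4/Stmts
section
/-!
# S5210: the statements

Plan with paper proofs: `outputs/live/tools/plans/S5210.md`. `HypK`, `Ess`, `Inv`, `Com`, `NormAut`, `TIAut`, `AF` are those of
`Cfsg.Agent.H756.PU` (S5258).
-/

set_option autoImplicit false

namespace Cfsg.Agent.H776.P4

open Cfsg Cfsg.FusionSystem
open Cfsg.Agent.H756.PU (HypK Ess Inv Com NormAut TIAut AF)

universe u v

section
variable (K : Type u) [Field K] [StarRing K]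

/-- `Z = Z(S)`, of order `q` -/
def PZ : Subgroup (PG K) where
  carrier := {g | g.r = 0 ∧ g.b = 0 ∧ g.c = 0}
  one_mem' := by simp
  mul_mem' := by
    rintro x y ⟨h1, h2, h3⟩ ⟨k1, k2, k3⟩
    simp [PG.mul_b, h1, h2, h3, k1, k2, k3]
  inv_mem' := by
    rintro x ⟨h1, h2, h3⟩
    simp [PG.inv_b, h1, h2, h3]

/-- `Y = Z₂(S) = S'`, elementary abelian of order `q³` -/
def PY : Subgroup (PG K) where
  carrier := {g | g.r = 0 ∧ g.c = 0}
  one_mem' := by simp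
  mul_mem' := by
    rintro x y ⟨h1, h3⟩ ⟨k1, k3⟩
    simp [h1, h3, k1, k3]
  inv_mem' := by
    rintro x ⟨h1, h3⟩
    simp [h1, h3]

/-- `V = J(S)`, elementary abelian of order `q⁴` -/
def PV : Subgroup (PG K) where
  carrier := {g | g.r = 0}
  one_mem' := by simp
  mul_mem' := by
    rintro x y h1 k1
    have h1' : x.r = 0 := h1
    have k1' : y.r = 0 := k1
    simp [h1', k1']
  inv_mem' := by
    rintro x h1
    have h1' : x.r = 0 := h1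
    simp [h1']

/-- `Q = q^{1+4}` -/
def PQ : Subgroup (PG K) where
  carrier := {g | g.c = 0}
  one_mem' := by simp
  mul_mem' := by
    rintro x y h1 k1
    have h1' : x.c = 0 := h1
    have k1' : y.c = 0 := k1
    simp [h1', k1']
  inv_mem' := by
    rintro x h1
    have h1' : x.c = 0 := h1
    simp [h1']

end

section
variable {K : Type u} [Field K] [StarRing K]

/-- `α` is the automorphism `tor(s, l, τ)` of `PG K` (similitude with multiplier `l` and `diag(s, 1)`, after the field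
automorphism `τ`) -/
structure IsTorP (α : MulAut (PG K)) (s l : K) (τ : K ≃+* K) : Prop where
  ns : s ≠ 0
  nl : l ≠ 0
  sl : star l = l
  tst : ∀ x, τ (star x) = star (τ x)
  r : ∀ g : PG K, (α g).r = s * τ g.r
  a : ∀ g : PG K, (α g).a = s * star s * l * τ g.a
  b : ∀ g : PG K, (α g).b = s * l * τ g.b
  c : ∀ g : PG K, (α g).c = l * τ g.c

variable (K) in
/-- the group of all these automorphisms -/
def TP : Subgroup (MulAut (PG K)) := Subgroup.closure {α | ∃ s l τ, IsTorP α s l τ}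

/-- `γ` is the restriction of `α` to `Q` -/
def IsRP (α : MulAut (PG K)) {Q : Subgroup (PG K)} (γ : MulAut Q) : Prop := ∀ e : Q, ((γ e : Q) : PG K) = α e

/-- the automorphism `θ_ψ : (r, a, b, c) ↦ (r, a + ψ c, b, c)` -/
structure IsTh (ψ : K → K) (θ : MulAut (PG K)) : Prop where
  add : ∀ x y : K, star x = x → star y = y → ψ (x + y) = ψ x + ψ y
  fix : ∀ x : K, star x = x → star (ψ x) = ψ x
  r : ∀ g : PG K, (θ g).r = g.r
  a : ∀ g : PG K, (θ g).a = g.a + ψ g.c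
  b : ∀ g : PG K, (θ g).b = g.b
  c : ∀ g : PG K, (θ g).c = g.c

/-- the automorphism `ε_κ` (only for `p = 3`): identity on `V`, `u_r ↦ (-(star κ r² + κ star r²), κ star r, 0) u_r` -/
structure IsEp (κ : K) (ε : MulAut (PG K)) : Prop where
  r : ∀ g : PG K, (ε g).r = g.r
  a : ∀ g : PG K, (ε g).a = g.a - (star κ * (g.r * g.r) + κ * star (g.r * g.r))
  b : ∀ g : PG K, (ε g).b = g.b + κ * star g.r
  c : ∀ g : PG K, (ε g).c = g.c

/-- the Weyl element of `Ω₄⁻(q) = PSL₂(q²)` on `V` -/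
structure IsWV (γ : MulAut (PV K)) : Prop where
  a : ∀ e : PV K, ((γ e : PV K) : PG K).a = (e : PG K).c
  b : ∀ e : PV K, ((γ e : PV K) : PG K).b = - star (e : PG K).b
  c : ∀ e : PV K, ((γ e : PV K) : PG K).c = (e : PG K).a

/-- the Weyl element of `SL₂(q)` on `Q` -/
structure IsWQ (γ : MulAut (PQ K)) : Prop where
  r : ∀ e : PQ K, ((γ e : PQ K) : PG K).r = (e : PG K).b
  a : ∀ e : PQ K, ((γ e : PQ K) : PG K).a =
    (e : PG K).a - ((e : PG K).r * star (e : PG K).b + star (e : PG K).r * (e : PG K).b)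
  b : ∀ e : PQ K, ((γ e : PQ K) : PG K).b = - (e : PG K).r

variable (K) in
/-- `Ω₄⁻(q)` on `V` -/
def LamV : Subgroup (MulAut (PV K)) := autInducedBy ⊤ (PV K) ⊔ Subgroup.closure {γ | IsWV γ}

variable (K) in
/-- `Inn(Q) SL₂(q)` -/
def LamQ : Subgroup (MulAut (PQ K)) := autInducedBy ⊤ (PQ K) ⊔ Subgroup.closure {γ | IsWQ γ}

/-- `Γ = Aut_F(Q)` for a parabolic `Q` whose Sylow subgroup is not normal, and `D` the `p'`-part of `Aut_F(S)` -/
structure ParP (p : ℕ) (Q : Subgroup (PG K)) (Γ : Subgroup (MulAut Q)) (D : Subgroup (MulAut (PG K))) : Prop where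
  indu : autInducedBy ⊤ Q ≤ Γ
  syl : ∀ P : Subgroup (MulAut Q), P ≤ Γ → IsPGroup p P → ∃ g ∈ Γ, ∀ x ∈ P, g * x * g⁻¹ ∈ autInducedBy ⊤ Q
  ti : TIAut (⊤ : Subgroup (PG K)) Γ
  nn : ¬ ∀ γ ∈ Γ, NormAut (⊤ : Subgroup (PG K)) γ
  D_le : D ≤ TP K
  D_cop : (Nat.card D).Coprime p
  D_res : ∀ d ∈ D, ∀ γ : MulAut Q, IsRP d γ → γ ∈ Γ
  norm : ∀ γ ∈ Γ, NormAut (⊤ : Subgroup (PG K)) γ → ∃ x : PG K, ∃ d ∈ D, ∀ e : Q, ((γ e : Q) : PG K) = x * d e * x⁻¹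

/-- `D` contains all the automorphisms `tor(f t, g t)`, `t ≠ 0` -/
def HasTorP (D : Subgroup (MulAut (PG K))) (f g : K → K) : Prop :=
  ∀ t : K, t ≠ 0 → ∀ α : MulAut (PG K), IsTorP α (f t) (g t) (RingEquiv.refl K) → α ∈ D

/-- `D` contains the torus of `SL₂(q)` on `Q` -/
def HasTorK (D : Subgroup (MulAut (PG K))) : Prop :=
  ∀ t : K, t ≠ 0 → star t = t → ∀ α : MulAut (PG K), IsTorP α t (t⁻¹ * t⁻¹) (RingEquiv.refl K) → α ∈ D

/-- `Γ = Λ D` -/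
def EqLD {Q : Subgroup (PG K)} (Γ Lam : Subgroup (MulAut Q)) (D : Subgroup (MulAut (PG K))) : Prop :=
  ∀ γ : MulAut Q, γ ∈ Γ ↔ ∃ l ∈ Lam, ∃ d ∈ D, ∃ δ : MulAut Q, IsRP d δ ∧ γ = l * δ

end

/-! ### Essential subgroups of `PG K` -/

/-- (E1) -/
def StE1 : Prop :=
  ∀ {K : Type u} [Field K] [StarRing K] {p n : ℕ}, HypK K p n →
    ∀ {E : Subgroup (PG K)} {Γ : Subgroup (MulAut E)}, Ess (⊤ : Subgroup (PG K)) E p Γ → PY K ≤ E

/-- (E2) -/
def StE2 : Prop :=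
  ∀ {K : Type u} [Field K] [StarRing K] {p n : ℕ}, HypK K p n →
    ∀ {E : Subgroup (PG K)} {Γ : Subgroup (MulAut E)}, Ess (⊤ : Subgroup (PG K)) E p Γ → PY K ≤ E →
    ¬ PV K ≤ E → Inv Γ (PZ K)

/-- (E3) -/
def StE3 : Prop :=
  ∀ {K : Type u} [Field K] [StarRing K] {p n : ℕ}, HypK K p n →
    ∀ {E : Subgroup (PG K)} {Γ : Subgroup (MulAut E)}, Ess (⊤ : Subgroup (PG K)) E p Γ → PY K ≤ E →
    Inv Γ (PZ K) → PQ K ≤ E ∧ Inv Γ (PQ K)

/-- (E4) -/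
def StE4 : Prop :=
  ∀ {K : Type u} [Field K] [StarRing K] {p n : ℕ}, HypK K p n → 2 < p ^ n →
    ∀ {E : Subgroup (PG K)} {Γ : Subgroup (MulAut E)}, Ess (⊤ : Subgroup (PG K)) E p Γ → PV K ≤ E → E = PV K

/-! ### The group and its parabolics -/

/-- (GRP) -/
def StGrp : Prop :=
  ∀ {K : Type u} [Field K] [StarRing K] {p n : ℕ}, HypK K p n →
    Nat.card (PG K) = (p ^ n) ^ 6 ∧ IsPGroup p (⊤ : Subgroup (PG K)) ∧
    (∀ (s l : K) (τ : K ≃+* K), s ≠ 0 → l ≠ 0 → star l = l → ∃ α, IsTorP α s l τ) ∧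
    (∀ α ∈ TP K, ∃ s l τ, IsTorP α s l τ) ∧
    (∀ ψ : K → K, (∀ x y : K, star x = x → star y = y → ψ (x + y) = ψ x + ψ y) →
      (∀ x : K, star x = x → star (ψ x) = ψ x) → ∃ θ, IsTh ψ θ) ∧
    (p = 3 → ∀ κ : K, ∃ ε, IsEp κ ε) ∧
    (∃ γ : MulAut (PV K), IsWV γ) ∧ (∃ γ : MulAut (PQ K), IsWQ γ)

/-- (TI) -/
def StTI : Prop :=
  ∀ {K : Type u} [Field K] [StarRing K] {p n : ℕ}, HypK K p n →
    (∀ Γ : Subgroup (MulAut (PQ K)), autInducedBy ⊤ (PQ K) ≤ Γ →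
      (∀ P : Subgroup (MulAut (PQ K)), P ≤ Γ → IsPGroup p P →
        ∃ g ∈ Γ, ∀ x ∈ P, g * x * g⁻¹ ∈ autInducedBy ⊤ (PQ K)) → TIAut (⊤ : Subgroup (PG K)) Γ) ∧
    (∀ Q : Subgroup (PG K), (Q = PV K ∨ Q = PQ K) →
      centralizerIn ⊤ Q ≤ Q ∧ Q ≠ ⊤ ∧ (∀ α : MulAut (PG K), Q.map α.toMonoidHom = Q))

/-- (NoOver, generic) if no essential subgroup properly contains the centric normal subgroup `Q` then `Aut_S(Q)` is TI -/
def StNoOver : Prop :=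
  ∀ {Ω : Type u} [Group Ω] {S : Subgroup Ω} [Finite S] {p : ℕ} [Fact p.Prime] (F : FusionSystem S) (Q : Subgroup Ω),
    IsPGroup p S → F.IsSaturated p → Q ≤ S → S ≤ Subgroup.normalizer (Q : Set Ω) → centralizerIn S Q ≤ Q →
    (∀ E, F.IsEssential p E → Q ≤ E → E = Q) → Inv (F.autGroup S) Q → TIAut S (F.autGroup Q)

/-- (PAR, generic for `PG K`) the structure `ParP` from a saturated system with `Aut_F(S) = Inn(S) D` -/
def StPar : Prop :=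
  ∀ {K : Type u} [Field K] [StarRing K] {p n : ℕ} [Fact p.Prime], HypK K p n →
    ∀ (F : FusionSystem (⊤ : Subgroup (PG K))) (D : Subgroup (MulAut (PG K))) (Q : Subgroup (PG K)), F.IsSaturated p →
    (Q = PV K ∨ Q = PQ K) → D ≤ TP K → (Nat.card D).Coprime p →
    AF F = (MulAut.conj : PG K →* MulAut (PG K)).range ⊔ D → TIAut (⊤ : Subgroup (PG K)) (F.autGroup Q) →
    (¬ ∀ γ ∈ F.autGroup Q, NormAut (⊤ : Subgroup (PG K)) γ) → ParP p Q (F.autGroup Q) D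

/-- (POS) every `p'`-group of automorphisms of `PG K` is conjugate into `TP K` -/
def StPos : Prop :=
  ∀ {K : Type u} [Field K] [StarRing K] {p n : ℕ}, HypK K p n → ∀ D : Subgroup (MulAut (PG K)),
    (Nat.card D).Coprime p → ∃ θ : MulAut (PG K), ∀ d ∈ D, θ * d * θ⁻¹ ∈ TP K

/-- (RK) rank one identification: a finite group with a TI, non-normal, elementary abelian Sylow `p`-subgroup of order
`p^m`, `m ≥ 2` -/
def StRk : Prop :=
  ∀ {G : Type u} [Group G] [Finite G] {p m : ℕ} [Fact p.Prime] (P : Sylow p G), 2 ≤ m →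
    (∀ g : G, g ∉ Subgroup.normalizer ((P : Subgroup G) : Set G) → ∀ x ∈ (P : Subgroup G), g * x * g⁻¹ ∈ (P : Subgroup G) →
      x = 1) →
    ¬ (P : Subgroup G).Normal → Nat.card P = p ^ m →
    (∀ x ∈ (P : Subgroup G), ∀ y ∈ (P : Subgroup G), x * y = y * x) → (∀ x ∈ (P : Subgroup G), x ^ p = 1) →
    (p ≠ 2 → Nat.card G ∣ Nat.card (GL (Fin (2 * m)) (ZMod p))) →
    (∀ P' P'' : Sylow p G, P' ≠ P → P'' ≠ P → ∃ x ∈ (P : Subgroup G),
      (P' : Subgroup G).map (MulAut.conj x).toMonoidHom = P'') ∧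
    (∀ P' : Sylow p G, P' ≠ P → ∀ x ∈ (P : Subgroup G), x ≠ 1 → ∃ y ∈ (P' : Subgroup G),
      (P : Subgroup G).map (MulAut.conj (x * y * x)).toMonoidHom = P' ∧
      (P' : Subgroup G).map (MulAut.conj (x * y * x)).toMonoidHom = P) ∧
    (∀ P' : Sylow p G, P' ≠ P → ∃ h ∈ Subgroup.normalizer ((P : Subgroup G) : Set G),
      h ∈ Subgroup.normalizer ((P' : Subgroup G) : Set G) ∧
      ∀ j : ℕ, 0 < j → j * (if p = 2 then 1 else 2) < p ^ m - 1 → ∀ x ∈ (P : Subgroup G), h ^ j * x = x * h ^ j → x = 1)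

/-- (V1) the opposite unipotent group on `V` -/
def StV1 : Prop :=
  ∀ {K : Type u} [Field K] [StarRing K] {p n : ℕ}, HypK K p n →
    ∀ (Γ : Subgroup (MulAut (PV K))) (D : Subgroup (MulAut (PG K))), ParP p (PV K) Γ D →
    ∃ Um : Subgroup (MulAut (PV K)), Um ≤ Γ ∧
      (∀ d ∈ D, ∀ δ : MulAut (PV K), IsRP d δ → ∀ y ∈ Um, δ * y * δ⁻¹ ∈ Um) ∧
      (∀ x ∈ autInducedBy ⊤ (PV K), x ≠ 1 → ∃ y ∈ Um,
        (∀ z, z ∈ Um ↔ (x * y * x) * z * (x * y * x)⁻¹ ∈ autInducedBy ⊤ (PV K)) ∧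
        (∀ z, z ∈ autInducedBy ⊤ (PV K) ↔ (x * y * x) * z * (x * y * x)⁻¹ ∈ Um)) ∧
      (∀ γ ∈ Γ, ∃ g ∈ autInducedBy ⊤ (PV K) ⊔ Um, NormAut (⊤ : Subgroup (PG K)) (g⁻¹ * γ)) ∧
      (∀ v : PV K, (v : PG K) ∈ PY K → (∀ y ∈ Um, y v = v) → v = 1) ∧
      (∃ s : K, s ≠ 1 ∧ s * star s = 1 ∧ ∃ α ∈ D, IsTorP α s 1 (RingEquiv.refl K))

/-- (V) the parabolic `V`: up to an automorphism `θ_ψ` commuting with `D`, `Γ = Λ_V D` -/
def StV : Prop :=
  ∀ {K : Type u} [Field K] [StarRing K] {p n : ℕ}, HypK K p n →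
    ∀ (Γ : Subgroup (MulAut (PV K))) (D : Subgroup (MulAut (PG K))), ParP p (PV K) Γ D →
    HasTorP D (fun t => t ^ 2) (fun t => (t * star t)⁻¹) ∧
    ∃ (ψ : K → K) (θ : MulAut (PG K)) (t : MulAut (PV K)), IsTh ψ θ ∧ (∀ d ∈ D, θ * d = d * θ) ∧ IsRP θ t ∧
      EqLD (Γ.map (MulAut.conj t).toMonoidHom) (LamV K) D

/-- (Q1) the opposite root group on `Q`, `q > 3` -/
def StQ1 : Prop :=
  ∀ {K : Type u} [Field K] [StarRing K] {p n : ℕ}, HypK K p n → 3 < p ^ n →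
    ∀ (Γ : Subgroup (MulAut (PQ K))) (D : Subgroup (MulAut (PG K))), ParP p (PQ K) Γ D →
    HasTorP D (fun t => t ^ 2) (fun t => (t * star t)⁻¹) →
    ∃ Rm : Subgroup (MulAut (PQ K)), Rm ≤ Γ ∧ Inn (PQ K) ≤ Rm ∧
      (∀ d ∈ D, ∀ δ : MulAut (PQ K), IsRP d δ → ∀ y ∈ Rm, δ * y * δ⁻¹ ∈ Rm) ∧
      (∀ x ∈ autInducedBy ⊤ (PQ K), x ∉ Inn (PQ K) → ∃ y ∈ Rm,
        (∀ z, z ∈ Rm ↔ (x * y * x) * z * (x * y * x)⁻¹ ∈ autInducedBy ⊤ (PQ K)) ∧
        (∀ z, z ∈ autInducedBy ⊤ (PQ K) ↔ (x * y * x) * z * (x * y * x)⁻¹ ∈ Rm)) ∧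
      (∀ γ ∈ Γ, ∃ g ∈ autInducedBy ⊤ (PQ K) ⊔ Rm, NormAut (⊤ : Subgroup (PG K)) (g⁻¹ * γ)) ∧
      (∀ v : PQ K, (v : PG K) ∈ PY K → (∀ y ∈ Rm, ((y v : PQ K) : PG K) * (v : PG K)⁻¹ ∈ PZ K) → (v : PG K) ∈ PZ K)

/-- (Qa) the action on `Q/Z`, `q > 3` -/
def StQa : Prop :=
  ∀ {K : Type u} [Field K] [StarRing K] {p n : ℕ}, HypK K p n → 3 < p ^ n →
    ∀ (Γ : Subgroup (MulAut (PQ K))) (D : Subgroup (MulAut (PG K))), ParP p (PQ K) Γ D →
    HasTorP D (fun t => t ^ 2) (fun t => (t * star t)⁻¹) →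
    HasTorK D ∧
    (∀ l ∈ LamQ K, ∃ γ ∈ Γ, ∀ e : PQ K, ((γ e : PQ K) : PG K).r = ((l e : PQ K) : PG K).r ∧
      ((γ e : PQ K) : PG K).b = ((l e : PQ K) : PG K).b) ∧
    (∀ γ ∈ Γ, ∃ l ∈ LamQ K, ∃ d ∈ D, ∃ δ : MulAut (PQ K), IsRP d δ ∧
      ∀ e : PQ K, ((γ e : PQ K) : PG K).r = (((l * δ) e : PQ K) : PG K).r ∧
      ((γ e : PQ K) : PG K).b = (((l * δ) e : PQ K) : PG K).b)

/-- (Q) the parabolic `Q`, `q > 3` -/
def StQ : Prop :=
  ∀ {K : Type u} [Field K] [StarRing K] {p n : ℕ}, HypK K p n → 3 < p ^ n →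
    ∀ (Γ : Subgroup (MulAut (PQ K))) (D : Subgroup (MulAut (PG K))), ParP p (PQ K) Γ D →
    HasTorP D (fun t => t ^ 2) (fun t => (t * star t)⁻¹) → HasTorK D ∧ EqLD Γ (LamQ K) D

/-- (QTwo) the parabolic `Q`, `q = 2` -/
def StQTwo : Prop :=
  ∀ {K : Type u} [Field K] [StarRing K] {p n : ℕ}, HypK K p n → p ^ n = 2 →
    ∀ (Γ : Subgroup (MulAut (PQ K))) (D : Subgroup (MulAut (PG K))), ParP p (PQ K) Γ D → EqLD Γ (LamQ K) D

/-- (REAL) -/
def StReal : Prop :=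
  ∀ {K : Type u} [Field K] [StarRing K] {p n : ℕ} [Fact p.Prime], HypK K p n → ∀ D : Subgroup (MulAut (PG K)),
    D ≤ TP K → (Nat.card D).Coprime p → HasTorP D (fun t => t ^ 2) (fun t => (t * star t)⁻¹) → HasTorK D →
    ∃ F : FusionSystem (⊤ : Subgroup (PG K)), F.IsSaturated p ∧ F.IsRealizable p ∧
      AF F = (MulAut.conj : PG K →* MulAut (PG K)).range ⊔ D ∧
      (¬ ∀ γ ∈ F.autGroup (PV K), NormAut (⊤ : Subgroup (PG K)) γ) ∧
      (¬ ∀ γ ∈ F.autGroup (PQ K), NormAut (⊤ : Subgroup (PG K)) γ) ∧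
      (∀ γ ∈ F.autGroup (PQ K), ∃ l ∈ LamQ K, ∃ d ∈ D, ∃ δ : MulAut (PQ K), IsRP d δ ∧ γ = l * δ) ∧
      (∀ E, F.IsEssential p E → E = PV K ∨ E = PQ K)

/-- (SYL) the Sylow subgroup of `PSU₄(q)` is `PG K` -/
def StSyl : Prop :=
  ∀ {K : Type u} [Field K] [StarRing K] {p n : ℕ} [Fact p.Prime], HypK K p n →
    ∀ T : Sylow p (Cfsg.PSU 4 K (p ^ n)), Nonempty (↥(T : Subgroup (Cfsg.PSU 4 K (p ^ n))) ≃* PG K)

/-! ### `q = 2` -/

section
variable {K : Type u} [Field K] [StarRing K]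

/-- `E_α = V⟨u_α⟩` (for `p = 2` this is the set itself) -/
def EA (α : K) : Subgroup (PG K) := Subgroup.closure {g | g.r = 0 ∨ g.r = α}

end

/-- (2E) -/
def StTwoE : Prop :=
  ∀ {K : Type u} [Field K] [StarRing K] {p n : ℕ} [Fact p.Prime], HypK K p n → p ^ n = 2 →
    ∀ (F : FusionSystem (⊤ : Subgroup (PG K))), F.IsSaturated p → ∀ E, F.IsEssential p E →
    E = PV K ∨ E = PQ K ∨ ∃ α : K, α ≠ 0 ∧ E = EA α

/-- (2B) if some `E_α` is essential then `F` is constrained, or looks like that of `A₈` -/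
def StTwoB : Prop :=
  ∀ {K : Type u} [Field K] [StarRing K] {p n : ℕ} [Fact p.Prime], HypK K p n → p ^ n = 2 →
    ∀ (F : FusionSystem (⊤ : Subgroup (PG K))), F.IsSaturated p → ∀ α : K, α ≠ 0 → F.IsEssential p (EA α) →
    F.IsRealizable p ∨
    (Nat.card (F.autGroup (PV K)) = 36 ∧ AF F = (MulAut.conj : PG K →* MulAut (PG K)).range ∧
      ¬ ∀ γ ∈ F.autGroup (PQ K), NormAut (⊤ : Subgroup (PG K)) γ)

/-- (2U) the subgroups of order `36` of `GL(V)` containing `U` are conjugate under `Aut(S)` -/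
def StTwoU : Prop :=
  ∀ {K : Type u} [Field K] [StarRing K] {p n : ℕ}, HypK K p n → p ^ n = 2 →
    ∀ (Γ Γ' : Subgroup (MulAut (PV K))), autInducedBy ⊤ (PV K) ≤ Γ → autInducedBy ⊤ (PV K) ≤ Γ' →
    Nat.card Γ = 36 → Nat.card Γ' = 36 →
    ∃ (θ : MulAut (PG K)) (t : MulAut (PV K)), IsRP θ t ∧ Γ.map (MulAut.conj t).toMonoidHom = Γ'

/-- (2R) the fusion system of `A₈ ≅ GL₄(2)` -/
def StTwoR : Prop :=
  ∀ {K : Type u} [Field K] [StarRing K] {p n : ℕ} [Fact p.Prime], HypK K p n → p ^ n = 2 →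
    ∃ F : FusionSystem (⊤ : Subgroup (PG K)), F.IsSaturated p ∧ F.IsRealizable p ∧
      Nat.card (F.autGroup (PV K)) = 36 ∧ AF F = (MulAut.conj : PG K →* MulAut (PG K)).range ∧
      ¬ ∀ γ ∈ F.autGroup (PQ K), NormAut (⊤ : Subgroup (PG K)) γ

/-- (2S) for `q = 2` a saturated system is determined by the automizers of `S`, `V`, `Q` -/
def StTwoS : Prop :=
  ∀ {K : Type u} [Field K] [StarRing K] {p n : ℕ} [Fact p.Prime], HypK K p n → p ^ n = 2 →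
    ∀ (F F' : FusionSystem (⊤ : Subgroup (PG K))), F.IsSaturated p → F'.IsSaturated p →
    F.autGroup ⊤ = F'.autGroup ⊤ → F.autGroup (PV K) = F'.autGroup (PV K) →
    F.autGroup (PQ K) = F'.autGroup (PQ K) → ∀ P, F.Hom P = F'.Hom P

/-! ### `q = 3` -/

section
variable {K : Type u} [Field K] [StarRing K]

/-- `W_κ = ε_κ W ε_κ⁻¹` on `Q`, `W` the Weyl element -/
def IsWk (κ : K) (γ : MulAut (PQ K)) : Prop :=
  ∃ (ε : MulAut (PG K)) (n t : MulAut (PQ K)), IsEp κ ε ∧ IsWQ n ∧ IsRP ε t ∧ γ = t * n * t⁻¹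

/-- the points `κ` with `W_κ ∈ Γ` -/
def Pt (Γ : Subgroup (MulAut (PQ K))) : Set K := {κ | ∃ γ ∈ Γ, IsWk κ γ}

/-- `Inn(Q)` and the groups `X_κ ≅ SL₂(3)`, `κ ∈ P` -/
def LamP (P : Set K) : Subgroup (MulAut (PQ K)) :=
  autInducedBy ⊤ (PQ K) ⊔ Subgroup.closure {γ | ∃ κ ∈ P, IsWk κ γ}

/-- the action of `tor(s, l, τ)` on the plane `K` of the `ε_κ` -/
def actK (s l : K) (τ : K ≃+* K) (κ : K) : K := l * s * (star s)⁻¹ * τ κ

/-- `D` fixes the point `κ` -/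
def FixK (D : Subgroup (MulAut (PG K))) (κ : K) : Prop :=
  ∀ d ∈ D, ∀ s l τ, IsTorP d s l τ → actK s l τ κ = κ

/-- `D` leaves the set `P` invariant -/
def InvK (D : Subgroup (MulAut (PG K))) (P : Set K) : Prop :=
  ∀ d ∈ D, ∀ s l τ, IsTorP d s l τ → ∀ κ ∈ P, actK s l τ κ ∈ P

/-- the six configurations, `ι² = -1`: `0` a point (`U₄(3)`), `1, 2` a line of square direction (`U₆(2)`), `3, 4` two points
in a non-square direction (`McL`), `5` a cross (`Co₂`) -/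
def Cfg (ι : K) : Fin 6 → Set K
  | 0 => {0}
  | 1 => {0, 1, -1}
  | 2 => {0, ι, -ι}
  | 3 => {1 + ι, -(1 + ι)}
  | 4 => {1 - ι, -(1 - ι)}
  | 5 => {0, 1, -1, ι, -ι}

/-- the linear maps of the plane which must be induced by elements of `D` -/
def CfgMap (ι : K) : Fin 6 → (K → K) → Prop
  | 0 => fun _ => False
  | 1 => fun f => ∀ x, f x = star x
  | 2 => fun f => ∀ x, f x = - star x
  | 3 => fun f => ∀ x, f x = - ι * star x
  | 4 => fun f => ∀ x, f x = ι * star x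
  | 5 => fun f => (∀ x, f x = star x) ∨ (∀ x, f x = - star x) ∨ (∀ x, f x = ι * x)

end

/-- (3A) for `q = 3`: `Γ` is generated by the `X_κ` in it and `D` -/
def StThreeA : Prop :=
  ∀ {K : Type u} [Field K] [StarRing K] {p n : ℕ}, HypK K p n → p ^ n = 3 →
    ∀ (Γ : Subgroup (MulAut (PQ K))) (D : Subgroup (MulAut (PG K))), ParP p (PQ K) Γ D →
    HasTorP D (fun t => t ^ 2) (fun t => (t * star t)⁻¹) →
    (Pt Γ).Nonempty ∧ InvK D (Pt Γ) ∧ EqLD Γ (LamP (Pt Γ)) D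

/-- (3B) the third point: closed in the square directions; not allowed in the others (`ι² = -1`) -/
def StThreeB : Prop :=
  ∀ {K : Type u} [Field K] [StarRing K] {p n : ℕ}, HypK K p n → p ^ n = 3 →
    ∀ (Γ : Subgroup (MulAut (PQ K))), autInducedBy ⊤ (PQ K) ≤ Γ →
    (∀ κ ∈ Pt Γ, ∀ v : K, v ^ 4 = 1 → κ + v ∈ Pt Γ → κ - v ∈ Pt Γ) ∧
    ((∀ P : Subgroup (MulAut (PQ K)), P ≤ Γ → IsPGroup p P → ∃ g ∈ Γ, ∀ x ∈ P, g * x * g⁻¹ ∈ autInducedBy ⊤ (PQ K)) →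
      ∀ κ ∈ Pt Γ, ∀ v : K, v ^ 4 = -1 → κ + v ∈ Pt Γ → ¬ κ - v ∈ Pt Γ)

/-- (3C) the elements of `D` forced by two points `κ ± v`: `D` contains all the `tor(s, l, τ)` acting on the plane as
`x ↦ - v * (star v)⁻¹ * star x` if `v` is a non-square (the reflection `v ↦ -v`) and as `x ↦ v * (star v)⁻¹ * star x` if `v` is a
square (the reflection fixing `v`) -/
def StThreeC : Prop :=
  ∀ {K : Type u} [Field K] [StarRing K] {p n : ℕ}, HypK K p n → p ^ n = 3 →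
    ∀ (Γ : Subgroup (MulAut (PQ K))) (D : Subgroup (MulAut (PG K))), ParP p (PQ K) Γ D →
    HasTorP D (fun t => t ^ 2) (fun t => (t * star t)⁻¹) →
    ∀ κ ∈ Pt Γ, ∀ v : K, v ≠ 0 → κ + v ∈ Pt Γ →
    ∀ (α : MulAut (PG K)) (s l : K) (τ : K ≃+* K), IsTorP α s l τ →
      ((v ^ 4 = 1 ∧ ∀ x, actK s l τ x = v * (star v)⁻¹ * star x) ∨
        (v ^ 4 = -1 ∧ ∀ x, actK s l τ x = - (v * (star v)⁻¹ * star x))) → α ∈ D

/-- (3D) classification of the configurations -/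
def StThreeD : Prop :=
  ∀ {K : Type u} [Field K] [StarRing K] {p n : ℕ}, HypK K p n → p ^ n = 3 → ∀ ι : K, ι * ι = -1 →
    ∀ (Γ : Subgroup (MulAut (PQ K))) (D : Subgroup (MulAut (PG K))), ParP p (PQ K) Γ D →
    HasTorP D (fun t => t ^ 2) (fun t => (t * star t)⁻¹) →
    ∃ (κ : K) (T : Fin 6), FixK D κ ∧ Pt Γ = {x | ∃ y ∈ Cfg ι T, x = κ + y} ∧ InvK D (Cfg ι T) ∧
      (∀ (α : MulAut (PG K)) (s l : K) (τ : K ≃+* K), IsTorP α s l τ → CfgMap ι T (actK s l τ) → α ∈ D) ∧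
      EqLD Γ (LamP (Pt Γ)) D ∧ HasTorK D

/-- (3N) numerical consequences: `|D|` and `|Γ|` (`|Inn(Q)| = 81`) in the six cases -/
def StThreeN : Prop :=
  ∀ {K : Type u} [Field K] [StarRing K] {p n : ℕ}, HypK K p n → p ^ n = 3 → ∀ ι : K, ι * ι = -1 →
    ∀ (Γ : Subgroup (MulAut (PQ K))) (D : Subgroup (MulAut (PG K))), ParP p (PQ K) Γ D →
    HasTorP D (fun t => t ^ 2) (fun t => (t * star t)⁻¹) → ∀ T : Fin 6, Pt Γ = Cfg ι T →
    EqLD Γ (LamP (Pt Γ)) D →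
    (T = 0 → Nat.card Γ = 81 * 12 * Nat.card D) ∧
    (T = 1 ∨ T = 2 → Nat.card Γ = 81 * 48 * Nat.card D) ∧
    (T = 3 ∨ T = 4 → Nat.card Γ = 81 * 30 * Nat.card D) ∧
    (T = 5 → Nat.card Γ = 81 * 120 * Nat.card D)

/-- (3P) the groups: for each of the five pairs `(|D|, |Γ|/81)` there is a realizable system -/
def StThreeP (d y : ℕ) : Prop :=
  ∀ {K : Type u} [Field K] [StarRing K] {p n : ℕ} [Fact p.Prime], HypK K p n → p ^ n = 3 →
    ∃ F : FusionSystem (⊤ : Subgroup (PG K)), F.IsSaturated p ∧ F.IsRealizable p ∧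
      Nat.card (AF F) = 243 * d ∧ Nat.card (F.autGroup (PQ K)) = 81 * y ∧
      (¬ ∀ γ ∈ F.autGroup (PV K), NormAut (⊤ : Subgroup (PG K)) γ) ∧
      (¬ ∀ γ ∈ F.autGroup (PQ K), NormAut (⊤ : Subgroup (PG K)) γ)

end Cfsg.Agent.H776.P4
end
end

-- part: H815/P4/Pull
section
set_option linter.all false
open scoped Cfsg.Agent.FastGrp

/-!
# S5210, `q = 3` (3P): the fusion system of a finite group containing `PG K` as a Sylow subgroup (helper815)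
-/

set_option autoImplicit false

namespace Cfsg.Agent.H815.P4

open Cfsg Cfsg.FusionSystem Cfsg.Agent.H781 Cfsg.Agent.H776.P4
open Cfsg.Agent.H756.PU (HypK Ess Inv Com NormAut TIAut AF)

universe u v

/-- the fusion system induced by a finite group `G` (of any universe) on a Sylow subgroup `ι : P → G` -/
theorem exists_pull_gen {P : Type u} [Group P] {p : ℕ} [Fact p.Prime] {G : Type u} [Group G] [Finite G]
    (φ : P →* G) (hinj : Function.Injective φ) (hp : IsPGroup p P) (hidx : ¬ p ∣ φ.range.index) :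
    ∃ F : FusionSystem (⊤ : Subgroup P), F.IsSaturated p ∧ F.IsRealizable p ∧
      (∀ α : MulAut P, α ∈ AF F ↔ ∃ g : G, ∀ x : P, φ (α x) = g * φ x * g⁻¹) ∧
      (∀ (Q : Subgroup P) (γ : MulAut Q), γ ∈ F.autGroup Q ↔
        ∃ g : G, ∀ e : Q, φ ((γ e : Q) : P) = g * φ (e : P) * g⁻¹) := by
  let ι : (⊤ : Subgroup P) →* G := φ.comp (Subgroup.topEquiv (G := P)).toMonoidHom
  have hι : ∀ x : (⊤ : Subgroup P), ι x = φ (x : P) := fun x => rfl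
  have hinj' : Function.Injective ι := by
    intro a b hab
    rw [hι, hι] at hab
    exact Subtype.ext (hinj hab)
  have hr : ι.range = φ.range := by
    ext y
    constructor
    · rintro ⟨x, rfl⟩
      exact ⟨_, rfl⟩
    · rintro ⟨x, rfl⟩
      exact ⟨⟨x, trivial⟩, rfl⟩
  have hrangep : IsPGroup p ι.range := by
    have h1 : IsPGroup p φ.range := hp.of_surjective φ.rangeRestrict φ.rangeRestrict_surjective
    rw [hr]
    exact h1
  have hidx' : ¬ p ∣ ι.range.index := by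
    rw [hr]
    exact hidx
  let T : Sylow p G := hrangep.toSylow hidx'
  have hT : (T : Subgroup G) = ι.range := rfl
  have hreal := pullback_isRealizedBy ι hinj'
  have haut : ∀ (Q : Subgroup P) (γ : MulAut Q), γ ∈ (pullback ι hinj').autGroup Q ↔
      ∃ g : G, ∀ e : Q, φ ((γ e : Q) : P) = g * φ (e : P) * g⁻¹ := by
    intro Q γ
    rw [H802.mem_autGroup_iff _ le_top]
    constructor
    · rintro ⟨h1, h2, g, hg⟩
      exact ⟨g, fun e => hg e⟩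
    · rintro ⟨g, hg⟩
      exact ⟨le_top, fun _ => trivial, g, fun e => hg e⟩
  refine ⟨pullback ι hinj', isSaturated_of_isRealizedBy hreal T hT, ⟨_, inferInstance, inferInstance, ι, hreal, T, hT⟩,
    ?_, haut⟩
  intro α
  have h1 : α ∈ AF (pullback ι hinj') ↔
      (MulAut.congr (Subgroup.topEquiv (G := P))).symm α ∈ (pullback ι hinj').autGroup ⊤ := by
    constructor
    · rintro ⟨β, hβ, rfl⟩
      rw [MulEquiv.coe_toMonoidHom, MulEquiv.symm_apply_apply]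
      exact hβ
    · intro h
      exact ⟨_, h, MulEquiv.apply_symm_apply _ _⟩
  rw [h1, haut]
  constructor
  · rintro ⟨g, hg⟩
    exact ⟨g, fun x => hg ⟨x, trivial⟩⟩
  · rintro ⟨g, hg⟩
    exact ⟨g, fun x => hg x⟩

/-- the same for a group `G` in any universe -/
theorem exists_pull {P : Type u} [Group P] {p : ℕ} [Fact p.Prime] {G : Type} [Group G] [Finite G]
    (φ : P →* G) (hinj : Function.Injective φ) (hp : IsPGroup p P) (hidx : ¬ p ∣ φ.range.index) :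
    ∃ F : FusionSystem (⊤ : Subgroup P), F.IsSaturated p ∧ F.IsRealizable p ∧
      (∀ α : MulAut P, α ∈ AF F ↔ ∃ g : G, ∀ x : P, φ (α x) = g * φ x * g⁻¹) ∧
      (∀ (Q : Subgroup P) (γ : MulAut Q), γ ∈ F.autGroup Q ↔
        ∃ g : G, ∀ e : Q, φ ((γ e : Q) : P) = g * φ (e : P) * g⁻¹) := by
  let e : G ≃* ULift.{u} G := MulEquiv.ulift.symm
  let φ' : P →* ULift.{u} G := e.toMonoidHom.comp φ
  have hinj' : Function.Injective φ' := e.injective.comp hinj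
  have hr : φ'.range = φ.range.map e.toMonoidHom := by
    rw [MonoidHom.map_range]
  have hidx' : ¬ p ∣ φ'.range.index := by
    have h1 : (φ.range.map e.toMonoidHom).index = φ.range.index := Subgroup.index_map_equiv φ.range e
    rw [hr, h1]
    exact hidx
  obtain ⟨F, h1, h2, h3, h4⟩ := exists_pull_gen φ' hinj' hp hidx'
  have key : ∀ x y : P, ∀ g : G, φ' x = e g * φ' y * (e g)⁻¹ ↔ φ x = g * φ y * g⁻¹ := by
    intro x y g
    change e (φ x) = e g * e (φ y) * (e g)⁻¹ ↔ _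
    rw [← map_inv, ← map_mul, ← map_mul]
    exact e.injective.eq_iff
  refine ⟨F, h1, h2, fun α => ?_, fun Q γ => ?_⟩
  · rw [h3]
    constructor
    · rintro ⟨g, hg⟩
      refine ⟨e.symm g, fun x => (key _ _ _).1 ?_⟩
      rw [MulEquiv.apply_symm_apply]
      exact hg x
    · rintro ⟨g, hg⟩
      exact ⟨e g, fun x => (key _ _ _).2 (hg x)⟩
  · rw [h4]
    constructor
    · rintro ⟨g, hg⟩
      refine ⟨e.symm g, fun x => (key _ _ _).1 ?_⟩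
      rw [MulEquiv.apply_symm_apply]
      exact hg x
    · rintro ⟨g, hg⟩
      exact ⟨e g, fun x => (key _ _ _).2 (hg x)⟩

end Cfsg.Agent.H815.P4
end
end
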